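set_option autoImplicit false
namespace Cfsg.Agent.Lib.Helper6.TCD.S82E7
noncomputable def NC (i : Nat) : Nat := Nat.land (Nat.shiftRight 0x18000d800000000000000050003500000000000000010000d000000000000000030003300000000000000008000c400000000000000020002f00000000000000004000bc00000000000000010002e0000000000000000c000b400000000000000030002c00000000000000010000ac00000000000000040002900000000000000014000a00000000000000004000270000000000000001400098000000000000000600025000000000000000140008c0000000000000006000220000000000000000000088000000000000000500020000000000000000180007c00000000000000020001f000000000000000140007800000000000000060001c0000000000000000c0007000000000000000060001a0000000000000001800064000000000000000400019000000000000000180005c0000000000000004000170000000000000001400058000000000000000600014000000000000000140004c00000000000000010001300000000000000018000440000000000000005000100000000000000000c0004000000000000000060000f000000000000000140003800000000000000040000d000000000000000140003000000000000000040000b000000000000000080002c00000000000000040000a0000000000000000c00024000000000000000300007000000000000000000001c0000000000000000000060000000000000000800014000000000000000200004000000000000000040001000000000000000030000300000000000000010000080000000000000005000010000000000000001800000000000000000000000000 (Nat.mul 86 (Nat.land i 511))) 77371252455336267181195263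
end Cfsg.Agent.Lib.Helper6.TCD.S82E7
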