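set_option autoImplicit false
namespace Cfsg.Agent.Lib.Helper6.TCD.S82E7
noncomputable def SC (i : Nat) : Nat := Nat.land (Nat.shiftRight 0x4000bc020002d008000a402000230080006c0200011008000000000000004000ac02000270080008402000190080003c020002e00800000000000000400094020001f0080005c020000d008000a802000280080000000000000040007402000150080002c02000240080008802000200080000000000000040004c020000900800090020002200800080020001e00800000010000001000024020001c00800068020001800800058020000000000000010000700800070020001a00800060020001600800050020000000400000040002a008000a0020002600800000010000000000000000000b008000a8020002800800098020000000400074020000000000000040002e008000b0020000000400000000001f0080005c020000d008000b8020002c0080000001000000000007c02000170080000004000300080000001000000000009c020002100800064020000f008000b8020002c0080000001000250080000004000170080003402000300080000001000000000009c0200021008000640200000010000000100000000000b402000290080008c020001b0080004402000300080000001000000000009c020000001000064020000f008000000100000000000b402000290080008c020001b00800000040000000000040020000e00800030020000a008000200200000004000c00200000004000ac02000000100008402000190080003c020000000400000000002d008000a402000000100006c020001100800000000002200800080020001e00800000010001300800000000003000800000010002b0080009c020002100800000040000f008000000100000000000b402000000100008c020001b008000440200000000000a0020002600800000010000000000054020000b008000000100000000000b402000290080008c0200000010000440200000004000bc0200000010000a4020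00230080006c020001100800000000002c0080000001000000000007c0200017008000340200000004000bc0200000010000a4020002300800000040001100800000000002c0080000001000250080007c02000000100003402000000000000001000000000009c020002100800064020000f00800000010002f008000b402000000100008c020001b0080004402000000000000001000000000009c020002100800000040000f0080007002000000000006002000160080005002000000040001c0200000004000bc020002d008000a402000000100006c0200011008000000000000004000ac02000000100008402000190080003c020002a00800000000002600800000010001d00800000000000b00800000010002f008000b402000290080008c020001b00800000040000000000000010002b0080009c020000001000064020000f008000b802000000000000001000000000007c020001700800034020000000000000010002b0080009c0200021008000640200000010000b802000000000000001000250080000004000170080003402000240080008802000000000007802000000040004c0200009008000b802000000000000001000250080007c020001700800000040002a008000a0020000000000000010000000000054020000b008000a8020002800800000000000000400074020001500800000040001200800040020000e00800000000000a00800020020000000400048020001000800038020000c0080002802000000100000001000240080008802000200080000000000000040004c020000000000090020002200800080020001e00800000010000001000000000001c008000680200018008000580200000000000000100007008000a802000280080009802000000040000000000000000002c020002e008000b0020000000400000000001f0080005c020000d008000c002000000040000000000270080008402000190080003c020000000400000000002d008000a402000230080006c0200011008000000000036008000d40200034008000cc0200032008000c402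 (Nat.mul 30 (Nat.land i 1023))) 1073741823
end Cfsg.Agent.Lib.Helper6.TCD.S82E7
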