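set_option autoImplicit false
namespace Cfsg.Agent.Lib.Helper6.TCD.S82E7
noncomputable def WDL0 (i : Nat) : Nat := Nat.land (Nat.shiftRight 0x505004000404040040400400030304003030040202020620202006000101040010100400006602000055020000440200003302000022020000110200000002 (Nat.mul 32 (Nat.land i 15))) 4294967295
noncomputable def WDL1 (i : Nat) : Nat := Nat.land (Nat.shiftRight 0x424204232323063232320600161604006161040015150400515104001414040041410413131306313131060012120400212104000606040060600400050504 (Nat.mul 32 (Nat.land i 15))) 4294967295
noncomputable def WDP0N0 (i : Nat) : Nat := Bool.rec (WDL0 i) (WDL1 i) (Nat.ble 16 i)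
noncomputable def WDL2 (i : Nat) : Nat := Nat.land (Nat.shiftRight 0x65656506004646040064640445454506545454060036360400636304003535040053530434343406434343060026260400626204002525040052520400242404 (Nat.mul 32 (Nat.land i 15))) 4294967295
noncomputable def WDL3 (i : Nat) : Nat := Nat.land (Nat.shiftRight 0x501000004010000030100000201000001010000000156565606 (Nat.mul 32 (Nat.land i 15))) 4294967295
noncomputable def WDP0N1 (i : Nat) : Nat := Bool.rec (WDL2 i) (WDL3 i) (Nat.ble 48 i)
noncomputable def WD (i : Nat) : Nat := Bool.rec (WDP0N0 i) (WDP0N1 i) (Nat.ble 32 i)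
end Cfsg.Agent.Lib.Helper6.TCD.S82E7
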